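import Mathlib
set_option linter.all false

/-!
# Elements of `SL₂(F)` (node NI, (MULT))

`up a`, `lo a`, `dg t`, `nn x`, `wn`; `bruhat`, `hom_ext`, `closure_eq_top`.
-/

set_option autoImplicit false

namespace Cfsg.Agent.OddHalf.NI.Mult

open Matrix

variable {F : Type*} [Field F]

/-- `[1 a; 0 1]` -/
def up (a : F) : SpecialLinearGroup (Fin 2) F := ⟨!![1, a; 0, 1], by simp [Matrix.det_fin_two_of]⟩

/-- `[1 0; a 1]` -/
def lo (a : F) : SpecialLinearGroup (Fin 2) F := ⟨!![1, 0; a, 1], by simp [Matrix.det_fin_two_of]⟩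

/-- `[t 0; 0 1/t]` -/
def dg (t : Fˣ) : SpecialLinearGroup (Fin 2) F :=
  ⟨!![(t : F), 0; 0, ((t⁻¹ : Fˣ) : F)], by simp [Matrix.det_fin_two_of]⟩

/-- `[0 x; -1/x 0]` -/
def nn (x : Fˣ) : SpecialLinearGroup (Fin 2) F :=
  ⟨!![0, (x : F); -((x⁻¹ : Fˣ) : F), 0], by simp [Matrix.det_fin_two_of]⟩

/-- `[0 1; -1 0]` -/
def wn : SpecialLinearGroup (Fin 2) F := nn 1

@[simp] theorem coe_up (a : F) : (up a : Matrix (Fin 2) (Fin 2) F) = !![1, a; 0, 1] := rfl
@[simp] theorem coe_lo (a : F) : (lo a : Matrix (Fin 2) (Fin 2) F) = !![1, 0; a, 1] := rfl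
@[simp] theorem coe_dg (t : Fˣ) : (dg t : Matrix (Fin 2) (Fin 2) F) = !![(t : F), 0; 0, ((t⁻¹ : Fˣ) : F)] := rfl
@[simp] theorem coe_nn (x : Fˣ) :
    (nn x : Matrix (Fin 2) (Fin 2) F) = !![0, (x : F); -((x⁻¹ : Fˣ) : F), 0] := rfl

theorem up_add (a b : F) : up (a + b) = up a * up b := by
  apply Subtype.ext
  rw [Matrix.SpecialLinearGroup.coe_mul]
  simp [Matrix.mul_fin_two, add_comm]

theorem lo_add (a b : F) : lo (a + b) = lo a * lo b := by
  apply Subtype.ext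
  rw [Matrix.SpecialLinearGroup.coe_mul]
  simp [Matrix.mul_fin_two]

theorem up_zero : up (0 : F) = 1 := by
  apply Subtype.ext
  rw [Matrix.SpecialLinearGroup.coe_one, coe_up, Matrix.one_fin_two]

theorem lo_zero : lo (0 : F) = 1 := by
  apply Subtype.ext
  rw [Matrix.SpecialLinearGroup.coe_one, coe_lo, Matrix.one_fin_two]

theorem up_neg (a : F) : up (-a) = (up a)⁻¹ := by
  rw [eq_inv_iff_mul_eq_one, ← up_add, neg_add_cancel, up_zero]

theorem lo_neg (a : F) : lo (-a) = (lo a)⁻¹ := by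
  rw [eq_inv_iff_mul_eq_one, ← lo_add, neg_add_cancel, lo_zero]

theorem dg_mul (s t : Fˣ) : dg (s * t) = dg s * dg t := by
  apply Subtype.ext
  rw [Matrix.SpecialLinearGroup.coe_mul]
  simp [Matrix.mul_fin_two, mul_comm]

theorem dg_one : dg (1 : Fˣ) = 1 := by
  apply Subtype.ext
  rw [Matrix.SpecialLinearGroup.coe_one, coe_dg, Matrix.one_fin_two]
  simp

/-- the diagonal torus -/
def dgHom : Fˣ →* SpecialLinearGroup (Fin 2) F where
  toFun := dg
  map_one' := dg_one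
  map_mul' := dg_mul

@[simp] theorem dgHom_apply (t : Fˣ) : dgHom t = dg t := rfl

theorem dg_inv (t : Fˣ) : dg t⁻¹ = (dg t)⁻¹ := map_inv (dgHom (F := F)) t

theorem nn_eq (x : Fˣ) : nn x = up (x : F) * lo (-((x⁻¹ : Fˣ) : F)) * up (x : F) := by
  apply Subtype.ext
  rw [Matrix.SpecialLinearGroup.coe_mul, Matrix.SpecialLinearGroup.coe_mul]
  simp [Matrix.mul_fin_two]

theorem nn_eq' (x : Fˣ) : nn x = lo (-((x⁻¹ : Fˣ) : F)) * up (x : F) * lo (-((x⁻¹ : Fˣ) : F)) := by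
  apply Subtype.ext
  rw [Matrix.SpecialLinearGroup.coe_mul, Matrix.SpecialLinearGroup.coe_mul]
  simp [Matrix.mul_fin_two]

theorem dg_eq (t : Fˣ) : dg t = nn t * (wn)⁻¹ := by
  rw [eq_mul_inv_iff_mul_eq]
  apply Subtype.ext
  rw [Matrix.SpecialLinearGroup.coe_mul]
  unfold wn
  simp [Matrix.mul_fin_two]

theorem nn_mul_up (x : Fˣ) (a : F) :
    nn x * up a * (nn x)⁻¹ = lo (-((x⁻¹ : Fˣ) : F) ^ 2 * a) := by
  rw [mul_inv_eq_iff_eq_mul]
  apply Subtype.ext
  rw [Matrix.SpecialLinearGroup.coe_mul, Matrix.SpecialLinearGroup.coe_mul]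
  have hx : (x : F) ≠ 0 := x.ne_zero
  have h1 : -((x : F)⁻¹ * a) = -(((x : F)⁻¹) ^ 2 * a * x) := by
    field_simp
  simp [Matrix.mul_fin_two, h1]

theorem nn_mul_lo (x : Fˣ) (a : F) :
    nn x * lo a * (nn x)⁻¹ = up (-(x : F) ^ 2 * a) := by
  rw [mul_inv_eq_iff_eq_mul]
  apply Subtype.ext
  rw [Matrix.SpecialLinearGroup.coe_mul, Matrix.SpecialLinearGroup.coe_mul]
  simp only [coe_nn, coe_up, coe_lo, Matrix.mul_fin_two]
  have hx : (x : F) ≠ 0 := x.ne_zero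
  simp only [Units.val_inv_eq_inv_val]
  field_simp
  simp

theorem dg_mul_up (t : Fˣ) (a : F) : dg t * up a * (dg t)⁻¹ = up ((t : F) ^ 2 * a) := by
  rw [mul_inv_eq_iff_eq_mul]
  apply Subtype.ext
  rw [Matrix.SpecialLinearGroup.coe_mul, Matrix.SpecialLinearGroup.coe_mul]
  simp only [coe_dg, coe_up, Matrix.mul_fin_two]
  have hx : (t : F) ≠ 0 := t.ne_zero
  simp only [Units.val_inv_eq_inv_val]
  field_simp
  simp

theorem dg_mul_lo (t : Fˣ) (a : F) : dg t * lo a * (dg t)⁻¹ = lo (((t⁻¹ : Fˣ) : F) ^ 2 * a) := by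
  rw [mul_inv_eq_iff_eq_mul]
  apply Subtype.ext
  rw [Matrix.SpecialLinearGroup.coe_mul, Matrix.SpecialLinearGroup.coe_mul]
  have hx : (t : F) ≠ 0 := t.ne_zero
  have h1 : (t : F)⁻¹ * a = ((t : F)⁻¹) ^ 2 * a * t := by
    field_simp
  simp [Matrix.mul_fin_two, h1]

/-- the Bruhat decomposition of `SL₂(F)` -/
theorem bruhat (g : SpecialLinearGroup (Fin 2) F) :
    (∃ a t, g = up a * dg t) ∨ ∃ a x b, g = up a * nn x * up b := by
  have hdet : g.1 0 0 * g.1 1 1 - g.1 0 1 * g.1 1 0 = 1 := by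
    have := g.2
    rwa [Matrix.det_fin_two] at this
  by_cases h : g.1 1 0 = 0
  · left
    rw [h, mul_zero, sub_zero] at hdet
    have h0 : g.1 0 0 ≠ 0 := left_ne_zero_of_mul_eq_one hdet
    have h1 : g.1 1 1 ≠ 0 := right_ne_zero_of_mul_eq_one hdet
    refine ⟨g.1 0 1 * g.1 0 0, Units.mk0 _ h0, ?_⟩
    apply Subtype.ext
    rw [Matrix.SpecialLinearGroup.coe_mul, coe_up, coe_dg, Matrix.mul_fin_two]
    have h2 : (g.1 0 0)⁻¹ = g.1 1 1 := inv_eq_of_mul_eq_one_right hdet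
    ext i j
    fin_cases i <;> fin_cases j
    · simp
    · simp only [Fin.zero_eta, Fin.mk_one, Matrix.of_apply, Matrix.cons_val', Matrix.cons_val_one,
        Matrix.cons_val_zero, Units.val_inv_eq_inv_val, Units.val_mk0]
      rw [mul_assoc, mul_inv_cancel₀ h0]
      simp
    · simpa using h
    · simp [h2]
  · right
    have hx : -(g.1 1 0)⁻¹ ≠ 0 := neg_ne_zero.2 (inv_ne_zero h)
    refine ⟨g.1 0 0 / g.1 1 0, Units.mk0 _ hx, g.1 1 1 / g.1 1 0, ?_⟩
    apply Subtype.ext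
    rw [Matrix.SpecialLinearGroup.coe_mul, Matrix.SpecialLinearGroup.coe_mul, coe_up, coe_up, coe_nn,
      Matrix.mul_fin_two, Matrix.mul_fin_two]
    have h2 : g.1 0 1 = (g.1 0 0 * g.1 1 1 - 1) / g.1 1 0 := by
      rw [eq_div_iff h]
      linear_combination -hdet
    ext i j
    fin_cases i <;> fin_cases j
    · simp [h]
    · simp only [Fin.zero_eta, Fin.mk_one, Matrix.of_apply, Matrix.cons_val', Matrix.cons_val_one,
        Matrix.cons_val_zero, Units.val_inv_eq_inv_val, Units.val_mk0]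
      rw [h2]
      field_simp
      simp
      ring
    · simp [h]
    · simp only [Fin.mk_one, Matrix.of_apply, Matrix.cons_val', Matrix.cons_val_one, Matrix.cons_val_fin_one,
        Units.val_inv_eq_inv_val, Units.val_mk0]
      rw [inv_neg, inv_inv, neg_neg]
      simp
      rw [mul_div_cancel₀ _ h]

theorem mem_of_up_lo {S : Subgroup (SpecialLinearGroup (Fin 2) F)} (h1 : ∀ a, up a ∈ S) (h2 : ∀ a, lo a ∈ S) :
    S = ⊤ := by
  rw [eq_top_iff]
  rintro g -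
  have h3 : ∀ x : Fˣ, nn x ∈ S := fun x => by
    rw [nn_eq]
    exact mul_mem (mul_mem (h1 _) (h2 _)) (h1 _)
  rcases bruhat g with ⟨a, t, rfl⟩ | ⟨a, x, b, rfl⟩
  · rw [dg_eq]
    exact mul_mem (h1 _) (mul_mem (h3 _) (inv_mem (h3 _)))
  · exact mul_mem (mul_mem (h1 _) (h3 _)) (h1 _)

theorem up_injective : Function.Injective (up : F → SpecialLinearGroup (Fin 2) F) := by
  intro a b h
  have h1 := congrArg (fun g : SpecialLinearGroup (Fin 2) F => g.1 0 1) h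
  simpa using h1

theorem lo_injective : Function.Injective (lo : F → SpecialLinearGroup (Fin 2) F) := by
  intro a b h
  have h1 := congrArg (fun g : SpecialLinearGroup (Fin 2) F => g.1 1 0) h
  simpa using h1

end Cfsg.Agent.OddHalf.NI.Mult
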